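import Groth.Agent.FlatCxLib.Generic
import Mathlib

/-! Finiteness of `T_n(M)` for finite `M`, for a bounded below complex of flat modules. -/

set_option autoImplicit false
universe u

open CategoryTheory CategoryTheory.Limits TensorProduct MonoidalCategory

namespace FlatCxFinLib

open FlatCxLib

variable {A : Type u} [CommRing A] (P : ChainComplex (ModuleCat.{u} A) ℤ)

/-- `P ⊗ S` for a short complex of modules. -/
noncomputable def tensorSeq (S : ShortComplex (ModuleCat.{u} A)) :
    ShortComplex (ChainComplex (ModuleCat.{u} A) ℤ) :=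
  ShortComplex.mk (CohIII.tensorMap P S.f) (CohIII.tensorMap P S.g) (by
    ext j : 1
    show ((tensoringRight (ModuleCat.{u} A)).map S.f).app _ ≫
      ((tensoringRight (ModuleCat.{u} A)).map S.g).app _ = 0
    rw [← NatTrans.comp_app, ← Functor.map_comp, S.zero, Functor.map_zero]
    rfl)

theorem tensorSeq_shortExact (hP : ∀ i, Module.Flat A (P.X i)) {S : ShortComplex (ModuleCat.{u} A)}
    (hS : S.ShortExact) : (tensorSeq P S).ShortExact := by
  refine HomologicalComplex.shortExact_of_degreewise_shortExact _ fun j => ?_
  have := hP j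
  have hex := (ShortComplex.ShortExact.moduleCat_exact_iff_function_exact S).1 hS.exact
  have hi : Function.Injective S.f.hom := (ModuleCat.mono_iff_injective _).1 hS.mono_f
  have hs : Function.Surjective S.g.hom := (ModuleCat.epi_iff_surjective _).1 hS.epi_g
  exact
    { exact := (ShortComplex.ShortExact.moduleCat_exact_iff_function_exact _).2
        (lTensor_exact (P.X j) hex hs)
      mono_f := (ModuleCat.mono_iff_injective _).2
        (Module.Flat.lTensor_preserves_injective_linearMap (M := P.X j) S.f.hom hi)
      epi_g := (ModuleCat.epi_iff_surjective _).2 (LinearMap.lTensor_surjective (P.X j) hs) }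

theorem finite_of_exact [IsNoetherianRing A] {X Y Z : Type u} [AddCommGroup X] [Module A X]
    [AddCommGroup Y] [Module A Y] [AddCommGroup Z] [Module A Z] (f : X →ₗ[A] Y) (g : Y →ₗ[A] Z)
    (h : Function.Exact f g) [Module.Finite A X] [Module.Finite A Z] : Module.Finite A Y := by
  have := isNoetherian_of_range_eq_ker f g (LinearMap.exact_iff.1 h).symm
  infer_instance

variable [IsNoetherianRing A]

theorem finite_middle (hP : ∀ i, Module.Flat A (P.X i)) {S : ShortComplex (ModuleCat.{u} A)}
    (hS : S.ShortExact) (n : ℤ) (h1 : Module.Finite A (CohIII.T P n S.X₁))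
    (h3 : Module.Finite A (CohIII.T P n S.X₃)) : Module.Finite A (CohIII.T P n S.X₂) := by
  have h := (tensorSeq_shortExact P hP hS).homology_exact₂ n
  have h' := (ShortComplex.ShortExact.moduleCat_exact_iff_function_exact _).1 h
  exact @finite_of_exact A _ _ _ _ _ _ _ _ _ _ _ _ _ h' h1 h3

theorem finite_right (hP : ∀ i, Module.Flat A (P.X i)) {S : ShortComplex (ModuleCat.{u} A)}
    (hS : S.ShortExact) (n : ℤ) (h2 : Module.Finite A (CohIII.T P n S.X₂))
    (h1 : Module.Finite A (CohIII.T P (n - 1) S.X₁)) : Module.Finite A (CohIII.T P n S.X₃) := by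
  have h := (tensorSeq_shortExact P hP hS).homology_exact₃ n (n - 1) (by simp)
  have h' := (ShortComplex.ShortExact.moduleCat_exact_iff_function_exact _).1 h
  exact @finite_of_exact A _ _ _ _ _ _ _ _ _ _ _ _ _ h' h2 h1

theorem subsingleton_T_of_isZero {n : ℤ} (h : IsZero (P.X n)) (M : ModuleCat.{u} A) :
    Subsingleton (CohIII.T P n M) :=
  ModuleCat.subsingleton_of_isZero
    ((HomologicalComplex.ExactAt.of_isZero (K := CohIII.tensorObj P M) ((tensorRight M).map_isZero h)).isZero_homology)

/-- The short exact sequence given by a surjection. -/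
theorem shortExact_ker {M F : Type u} [AddCommGroup M] [Module A M] [AddCommGroup F] [Module A F]
    (π : F →ₗ[A] M) (hπ : Function.Surjective π) :
    (ShortComplex.moduleCatMk (LinearMap.ker π).subtype π (LinearMap.comp_ker_subtype π)).ShortExact where
  exact := (ShortComplex.ShortExact.moduleCat_exact_iff_function_exact _).2
    (LinearMap.exact_subtype_ker_map π)
  mono_f := (ModuleCat.mono_iff_injective _).2 Subtype.val_injective
  epi_g := (ModuleCat.epi_iff_surjective _).2 hπ

theorem finite_T_pi (hP : ∀ i, Module.Flat A (P.X i)) (n : ℤ)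
    (h : Module.Finite A (CohIII.T P n (ModuleCat.of A A))) :
    ∀ k : ℕ, Module.Finite A (CohIII.T P n (ModuleCat.of A (Fin k → A))) := by
  intro k
  induction k with
  | zero =>
    have h0 : IsZero (ModuleCat.of A (Fin 0 → A)) := ModuleCat.isZero_of_subsingleton _
    have : (tensoringRight (ModuleCat.{u} A)).Additive := inferInstance
    have hz : IsZero ((CohIII.tensorObj P (ModuleCat.of A (Fin 0 → A))).X n) :=
      ((tensorLeft (P.X n)).map_isZero h0)
    have : Subsingleton (CohIII.T P n (ModuleCat.of A (Fin 0 → A))) :=
      ModuleCat.subsingleton_of_isZero ((HomologicalComplex.ExactAt.of_isZero hz).isZero_homology)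
    infer_instance
  | succ k ih =>
    let i : A →ₗ[A] (Fin (k + 1) → A) := LinearMap.single A (fun _ => A) 0
    let π : (Fin (k + 1) → A) →ₗ[A] (Fin k → A) := LinearMap.funLeft A A Fin.succ
    have hex : Function.Exact i π := by
      intro v
      refine ⟨fun hv => ⟨v 0, ?_⟩, ?_⟩
      · ext j
        cases j using Fin.cases with
        | zero => simp [i]
        | succ j =>
          have := congrFun hv j
          simp only [π, LinearMap.funLeft_apply, Pi.zero_apply] at this
          simp [i, this, Fin.succ_ne_zero]
      · rintro ⟨a, rfl⟩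
        ext j
        simp [i, π, LinearMap.funLeft_apply, Fin.succ_ne_zero]
    have hS : (ShortComplex.moduleCatMk i π hex.linearMap_comp_eq_zero).ShortExact :=
      { exact := (ShortComplex.ShortExact.moduleCat_exact_iff_function_exact _).2 hex
        mono_f := (ModuleCat.mono_iff_injective _).2 (show Function.Injective i from fun a b hab => by
          simpa [i] using congrFun hab 0)
        epi_g := (ModuleCat.epi_iff_surjective _).2
          (LinearMap.funLeft_surjective_of_injective A A _ (Fin.succ_injective k)) }
    exact finite_middle P hP hS n h ih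

theorem finite_T (hP : ∀ i, Module.Flat A (P.X i)) (i₀ : ℤ) (hb : ∀ i < i₀, IsZero (P.X i))
    (hfg : ∀ n : ℤ, Module.Finite A (CohIII.T P n (ModuleCat.of A A))) (n : ℤ) :
    ∀ (M : Type u) [AddCommGroup M] [Module A M] [Module.Finite A M],
      Module.Finite A (CohIII.T P n (ModuleCat.of A M)) := by
  have base : ∀ n, n < i₀ → ∀ (M : Type u) [AddCommGroup M] [Module A M] [Module.Finite A M],
      Module.Finite A (CohIII.T P n (ModuleCat.of A M)) := fun n hn M _ _ _ =>
    have := subsingleton_T_of_isZero P (hb n hn) (ModuleCat.of A M)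
    inferInstance
  obtain h | h := lt_or_ge n i₀
  · exact base n h
  induction n, h using Int.le_induction with
  | base =>
    intro M _ _ _
    obtain ⟨k, π, hπ⟩ := Module.Finite.exists_fin' A M
    exact finite_right P hP (shortExact_ker π hπ) i₀ (finite_T_pi P hP i₀ (hfg i₀) k)
      (base (i₀ - 1) (by omega) _)
  | succ m hm ih =>
    intro M _ _ _
    obtain ⟨k, π, hπ⟩ := Module.Finite.exists_fin' A M
    exact finite_right P hP (shortExact_ker π hπ) (m + 1) (finite_T_pi P hP (m + 1) (hfg (m + 1)) k)
      (by rw [add_sub_cancel_right]; exact ih _)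

/-- Finiteness of the homology of the base change to a finite algebra. -/
theorem finite_K_bcCx (B : Type u) [CommRing B] [Algebra A B] (p : ℤ)
    (h : Module.Finite A (CohIII.T P p (ModuleCat.of A B))) :
    Module.Finite B (K (CohIII.bcCx (algebraMap A B) P) p (p - 1)) := by
  let g := dbar P p (p - 1)
  have hc : ∀ z, TensorProduct.comm A (P.X (p - 1)) B (g.rTensor B z) =
      g.baseChange B (TensorProduct.comm A (W P p) B z) := by
    intro z
    induction z using TensorProduct.induction_on with
    | zero => simp
    | tmul b m => rfl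
    | add a b ha hb => simp only [map_add, ha, hb]
  let e : LinearMap.ker (g.rTensor B) ≃ₗ[A] LinearMap.ker ((g.baseChange B).restrictScalars A) :=
    (TensorProduct.comm A (W P p) B).ofSubmodules _ _
      (map_ker_equiv _ _ (TensorProduct.comm A (W P p) B) (TensorProduct.comm A (P.X (p - 1)) B) hc)
  have h1 : Module.Finite A (LinearMap.ker (g.baseChange B)) :=
    Module.Finite.equiv ((tEquiv P p (p - 1) (by omega) (ModuleCat.of A B)).trans e)
  have h2 : Module.Finite B (LinearMap.ker (g.baseChange B)) :=
    Module.Finite.of_restrictScalars_finite A B _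
  exact Module.Finite.equiv ((homologyBcKer B P p (p - 1) (by omega)).symm.trans
    (homologyEquivK (CohIII.bcCx (algebraMap A B) P) p (p - 1) (by omega)))

end FlatCxFinLib
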